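import Cfsg.Agent.Lib.M22Order.BlockTable

/-!
# Simple groups of order 443520: general facts on a principal block with cyclic defect group
-/

set_option autoImplicit false
set_option linter.style.haveILetI false
set_option linter.unusedSectionVars false

open Cfsg CfsgLib.Chars CfsgLib.CharApps CfsgLib.Blocks CfsgLib.Small

namespace CfsgLib.M22Order.SevenPairs

universe u

variable {G : Type u} [Group G] [Finite G] [IsSimpleGroup G] {p n : ℕ} {lists : List ((Fin n → ℕ) × ℕ)}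
  (T : Table G p n lists)

/-- The degree of an irreducible character. -/
noncomputable abbrev dg (χ : IrrCharacter G) : ℕ := charDegree (χ : G → ℂ)

theorem dg_append (i : Fin (n + 2)) :
    dg (Fin.append T.a T.θ i) = Fin.append T.list.1 (fun _ => T.list.2) i := by
  induction i using Fin.addCases with
  | left i => simp only [Fin.append_left]; exact T.deg_a i
  | right i => simp only [Fin.append_right]; exact T.deg_θ i

theorem not_dvd_dg (hp : ¬ p ∣ n + 1) (hp1 : p ≠ 1) (i : Fin (n + 2)) :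
    ¬ p ∣ dg (Fin.append T.a T.θ i) := by
  rw [dg_append]
  intro h
  induction i using Fin.addCases with
  | left i =>
    rw [Fin.append_left] at h
    have h1 := (T.sgn_eq i).2
    rw [Int.emod_eq_zero_of_dvd ((Int.natCast_dvd_natCast.2 h).mul_left _)] at h1
    exact absurd h1 (by norm_num)
  | right i =>
    rw [Fin.append_right] at h
    have h1 := T.ε_eq.2
    rw [Int.emod_eq_zero_of_dvd ((Int.natCast_dvd_natCast.2 h).mul_left _)] at h1
    exact absurd h1.symm (Int.natCast_ne_zero.2 (Nat.succ_ne_zero n))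

/-- A character outside the block has degree divisible by `p`. -/
theorem dvd_or_mem (χ : IrrCharacter G) (hne : χ ≠ principal G) (h : ¬ p ∣ dg χ) :
    ∃ i, χ = Fin.append T.a T.θ i := by
  rcases T.cover χ with h' | h' | h'
  · exact absurd h' hne
  · exact h'
  · exact absurd h'.1 h

theorem sum_univ [Fintype (IrrCharacter G)] (F : IrrCharacter G → ℂ)
    (hF : ∀ χ : IrrCharacter G, (∀ x : G, orderOf x = p → (χ : G → ℂ) x = 0) → F χ = 0) :
    ∑ χ, F χ = F (principal G) + ((∑ i, F (T.a i)) + (F (T.θ 0) + F (T.θ 1))) := by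
  classical
  have hsub : ∑ χ ∈ insert (principal G) (Finset.univ.image (Fin.append T.a T.θ)), F χ = ∑ χ, F χ :=
    Finset.sum_subset (Finset.subset_univ _) fun χ _ hχ => by
      refine hF χ ?_
      rcases T.cover χ with h | ⟨i, h⟩ | h
      · exact absurd (Finset.mem_insert.2 (Or.inl h)) hχ
      · exact absurd (Finset.mem_insert_of_mem
          (Finset.mem_image.2 ⟨i, Finset.mem_univ _, h.symm⟩)) hχ
      · exact h.2
  rw [← hsub, Finset.sum_insert (fun h => by
    obtain ⟨i, -, hi⟩ := Finset.mem_image.1 h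
    exact T.ne_principal i hi), Finset.sum_image fun i _ j _ h => T.inj h, Fin.sum_univ_add]
  simp [Fin.sum_univ_two]

/-- The degrees in the relation. -/
theorem deg_rel (hp1 : p ≠ 1) :
    T.ε * (T.list.2 : ℤ) = 1 + ∑ i, T.sgn i * (T.list.1 i : ℤ) := by
  have h := T.rel 0 1 (by rw [orderOf_one, Nat.dvd_one]; exact hp1)
  simp only [deg_eq, T.deg_θ, T.deg_a] at h
  exact_mod_cast h

/-- The exceptional characters agree at an element of order prime to `p`. -/
theorem theta_eq {t : G} (ht : ¬ p ∣ orderOf t) (j : Fin 2) :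
    (T.θ j : G → ℂ) t = (T.θ 0 : G → ℂ) t := by
  have hε : (T.ε : ℂ) ≠ 0 := Int.cast_ne_zero.2 (by rcases T.ε_eq.1 with h | h <;> omega)
  exact mul_left_cancel₀ hε ((T.rel j t ht).trans (T.rel 0 t ht).symm)

/-- The values in the relation. -/
theorem value_rel {t : G} (ht : ¬ p ∣ orderOf t) (F : IrrCharacter G → ℤ)
    (hF : ∀ χ, (F χ : ℂ) = (χ : G → ℂ) t) (j : Fin 2) :
    F (T.θ j) = T.ε * (1 + ∑ i, T.sgn i * F (T.a i)) := by
  have h := T.rel j t ht
  simp only [← hF] at h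
  have h2 : T.ε * F (T.θ j) = 1 + ∑ i, T.sgn i * F (T.a i) := by exact_mod_cast h
  have hε2 : T.ε * T.ε = 1 := by rcases T.ε_eq.1 with h | h <;> rw [h] <;> norm_num
  rw [← h2, ← mul_assoc, hε2, one_mul]

/-- The class product of an involution class with itself misses the elements of order `p`. -/
theorem class_zero (hG : Nat.card G = 443520) {t : G} (ht : t * t = 1) (ht1 : t ≠ 1)
    (htp : ¬ p ∣ orderOf t) {z : G} (hz : orderOf z = p)
    (hinv : ∀ u : G, u * u = 1 → u * z⁻¹ * u⁻¹ = z⁻¹⁻¹ → u = 1)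
    (F : IrrCharacter G → ℤ) (hF : ∀ χ, (F χ : ℂ) = (χ : G → ℂ) t) :
    (443520 : ℤ) + (∑ i, T.sgn i * ((443520 / T.list.1 i : ℕ) : ℤ) * (F (T.a i) * F (T.a i))) -
      T.ε * ((443520 / T.list.2 : ℕ) : ℤ) * (F (T.θ 0) * F (T.θ 0)) = 0 := by
  classical
  haveI := Fintype.ofFinite G
  haveI := irrFintype G
  have h := card_conj_mul_conj t t z⁻¹
  rw [inv_inv] at h
  haveI : IsEmpty {ab : G × G // (ab.1 * t * ab.1⁻¹) * (ab.2 * t * ab.2⁻¹) = z⁻¹} := by
    refine ⟨fun ⟨⟨c, d⟩, hab⟩ => ?_⟩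
    have h1 : (c * t * c⁻¹) * (c * t * c⁻¹) = 1 := by
      rw [← sq, conj_pow, sq, ht, mul_one, mul_inv_cancel]
    have h2 : (d * t * d⁻¹) * (d * t * d⁻¹) = 1 := by
      rw [← sq, conj_pow, sq, ht, mul_one, mul_inv_cancel]
    have hu := hinv _ h1 ?_
    · exact ht1 (conj_eq_one_iff.1 hu)
    · simp only at hab
      generalize c * t * c⁻¹ = u at hab h1 ⊢
      generalize d * t * d⁻¹ = r at hab h2
      rw [← hab, mul_inv_rev u r, inv_eq_of_mul_eq_one_left h2, inv_eq_of_mul_eq_one_left h1,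
        ← mul_assoc, h1, one_mul]
  rw [Nat.card_of_isEmpty, Nat.cast_zero, eq_comm, mul_eq_zero] at h
  have h0 := h.resolve_left (Chars.card_ne_zero G)
  rw [sum_univ T (fun χ => (χ : G → ℂ) t * (χ : G → ℂ) t * (χ : G → ℂ) z / (χ : G → ℂ) 1)
    fun χ h => by simp [h z hz]] at h0
  have hs : ∑ i, (T.a i : G → ℂ) t * (T.a i : G → ℂ) t * (T.a i : G → ℂ) z / (T.a i : G → ℂ) 1 =
      ∑ i, (T.sgn i : ℂ) * (F (T.a i) : ℂ) ^ 2 / (T.list.1 i : ℂ) :=
    Finset.sum_congr rfl fun i _ => by rw [hF, deg_eq, T.deg_a, T.at_p i z hz]; ring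
  have hd : ∀ j, (T.θ j : G → ℂ) 1 = (T.list.2 : ℂ) := fun j => by rw [deg_eq, T.deg_θ]
  rw [principal_apply, principal_apply, principal_apply, hs, theta_eq T htp 1, ← hF (T.θ 0), hd,
    hd] at h0
  have hdiv : ∀ χ : IrrCharacter G, (((443520 / dg χ : ℕ) : ℤ) : ℂ) = 443520 / (dg χ : ℂ) :=
    fun χ => by
      rw [Int.cast_natCast, Nat.cast_div (hG ▸ charDegree_dvd_card χ)
        (Nat.cast_ne_zero.2 (CfsgLib.Blocks.charDegree_pos χ).ne')]
      norm_num
  apply Int.cast_injective (α := ℂ)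
  simp only [Int.cast_add, Int.cast_sub, Int.cast_mul, Int.cast_zero, Int.cast_sum,
    Int.cast_ofNat, ← T.deg_a, ← T.deg_θ 0, hdiv]
  simp only [dg, T.deg_a, T.deg_θ]
  have hs2 : ∑ i, (T.sgn i : ℂ) * (443520 / (T.list.1 i : ℂ)) *
      ((F (T.a i) : ℂ) * (F (T.a i) : ℂ)) =
      443520 * ∑ i, (T.sgn i : ℂ) * (F (T.a i) : ℂ) ^ 2 / (T.list.1 i : ℂ) := by
    rw [Finset.mul_sum]
    exact Finset.sum_congr rfl fun i _ => by ring
  rw [hs2]
  linear_combination (443520 : ℂ) * h0 -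
    443520 * ((F (T.θ 0) : ℂ) ^ 2 / (T.list.2 : ℂ)) * (T.at_p_θ z hz)

end CfsgLib.M22Order.SevenPairs
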