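import Cfsg.Agent.Lib.M22Order.SevenPairs.Arith
import Cfsg.Agent.Lib.M22Order.SevenPairs.Block

/-!
# Simple groups of order 443520: the principal block at seven
-/

set_option autoImplicit false
set_option linter.style.haveILetI false
set_option linter.unusedSectionVars false

open Cfsg CfsgLib.Chars CfsgLib.CharApps CfsgLib.Blocks CfsgLib.Small

namespace CfsgLib.M22Order.SevenPairs

open CfsgLib.M22Order.BlockTable

universe u

variable {G : Type u} [Group G] [Finite G] [IsSimpleGroup G] (hG : Nat.card G = 443520)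

/-- No involution inverts an element of prime order when its normalizer has odd order. -/
theorem eq_one_of_inverts {p N : ℕ} [Fact p.Prime] (L : Local G p N) (hodd : Nat.Coprime N 2)
    (hsyl : ∀ P : Sylow p G, Nat.card (P : Subgroup G) = p) {x u : G} (hx : orderOf x = p)
    (hu : u * u = 1) (hux : u * x * u⁻¹ = x⁻¹) : u = 1 := by
  obtain ⟨P, hle⟩ := (IsPGroup.of_card (p := p) (n := 1)
    (show Nat.card (Subgroup.zpowers x) = p ^ 1 by
      rw [Nat.card_zpowers, hx, pow_one])).exists_le_sylow
  have hPz : Subgroup.zpowers x = (P : Subgroup G) :=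
    Subgroup.eq_of_le_of_card_ge hle (by rw [hsyl P, Nat.card_zpowers, hx])
  have hmap : ∀ y ∈ Subgroup.zpowers x, u * y * u⁻¹ ∈ Subgroup.zpowers x := fun y hy => by
    obtain ⟨k, rfl⟩ := Subgroup.mem_zpowers_iff.1 hy
    rw [← conj_zpow, hux]
    exact Subgroup.zpow_mem _ (Subgroup.inv_mem _ (Subgroup.mem_zpowers x)) k
  have hmem : u ∈ Subgroup.normalizer ((P : Subgroup G) : Set G) := by
    rw [← hPz, Subgroup.mem_normalizer_iff]
    refine fun y => ⟨hmap y, fun hy => ?_⟩
    have h := hmap _ hy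
    rw [inv_eq_of_mul_eq_one_left hu] at h
    simpa [mul_assoc, hu, ← mul_assoc u u] using h
  have h1 := Subgroup.orderOf_dvd_natCard _ hmem
  rw [L.norm P] at h1
  have h2 : orderOf u ∣ 2 := orderOf_dvd_of_pow_eq_one (by rw [sq, hu])
  exact orderOf_eq_one_iff.1 (Nat.eq_one_of_dvd_coprimes hodd h1 h2)

include hG

theorem card_sylow_seven (P : Sylow 7 G) : Nat.card (P : Subgroup G) = 7 := by
  haveI := Fact.mk (show Nat.Prime 7 by norm_num)
  simpa using card_sylow_eq (p := 7) 1 63360 (by rw [hG]; rfl) (by norm_num) P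

/-- The block at seven, with all the lists the degrees allow. -/
theorem exists_table_seven (L : LocalSeven G) : Nonempty (Table G 7 2 allSeven) := by
  classical
  haveI := Fact.mk (show Nat.Prime 7 by norm_num)
  haveI := Fintype.ofFinite G
  haveI := irrFintype G
  obtain ⟨P⟩ := (inferInstance : Nonempty (Sylow 7 G))
  have hP := card_sylow_seven hG P
  obtain ⟨z, hzP, hz1⟩ : ∃ z ∈ (P : Subgroup G), z ≠ 1 :=
    (Subgroup.bot_or_exists_ne_one (P : Subgroup G)).resolve_left fun h => by
      rw [h, Subgroup.card_bot] at hP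
      omega
  have hzo : orderOf z = 7 := by
    rcases (Nat.dvd_prime (show Nat.Prime 7 by norm_num)).1
      (hP ▸ Subgroup.orderOf_dvd_natCard _ hzP) with h | h
    · exact absurd (orderOf_eq_one_iff.1 h) hz1
    · exact h
  have hC : Subgroup.centralizer ((P : Subgroup G) : Set G) = (P : Subgroup G) := by
    refine (Subgroup.eq_of_le_of_card_ge ?_ ?_).symm
    · haveI := (isCyclic_of_prime_card hP).isMulCommutative
      exact Subgroup.le_centralizer (P : Subgroup G)
    · rw [hP]
      exact (Nat.le_of_dvd Nat.card_pos (Subgroup.card_dvd_of_le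
        (Subgroup.centralizer_le (Set.singleton_subset_iff.2 hzP)))).trans (L.cent z hzo).le
  have hrel' : (Subgroup.centralizer ((P : Subgroup G) : Set G)).relIndex
      (Subgroup.normalizer ((P : Subgroup G) : Set G)) = 3 := by
    have hle : Subgroup.centralizer ((P : Subgroup G) : Set G) ≤
        Subgroup.normalizer ((P : Subgroup G) : Set G) := Subgroup.centralizer_le_normalizer _
    have h := Subgroup.relIndex_mul_relIndex _ _ _ bot_le hle
    rw [Subgroup.relIndex_bot_left, Subgroup.relIndex_bot_left, L.norm P, hC, hP] at h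
    rw [hC]
    omega
  obtain ⟨M, hM⟩ := CharApps.exists_pModular (p := 7)
  haveI := hM.2.1.isPrime
  obtain ⟨X, Y, σ, ε, hB, hdisj, hX, hY, hXp, hε, hYd, hYeq, hrel⟩ :=
    Small.O7920.exists_block_data (by norm_num) hM P hP hrel'
  norm_num at hY
  have h1one : ¬ 7 ∣ orderOf (1 : G) := by rw [orderOf_one]; norm_num
  have hprin : principal G ∈ X := by
    rcases (hB _).1 (CfsgLib.Blocks.principal_mem_principalBlock M) with h | h
    · exact h
    exfalso
    obtain ⟨a, ha, hane⟩ := Finset.exists_mem_ne (show 1 < Y.card by omega) (principal G)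
    have h1 := hYeq a ha _ h 1 h1one
    rw [deg_eq, principal_apply, Nat.cast_eq_one] at h1
    exact hane (eq_principal hG h1)
  -- the two non-exceptional characters, sorted by degree
  set X' := X.erase (principal G) with hX'
  have hX'c : X'.card = 2 := by rw [hX', Finset.card_erase_of_mem hprin, hX]
  let e₀ : Fin 2 ≃ X' := (X'.equivFinOfCardEq hX'c).symm
  let b : Fin 2 → IrrCharacter G := fun i => (e₀ i : IrrCharacter G)
  let q : Equiv.Perm (Fin 2) := Tuple.sort fun i => charDegree (b i : G → ℂ)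
  let a : Fin 2 → IrrCharacter G := fun i => b (q i)
  have hmono : Monotone fun i => charDegree (a i : G → ℂ) :=
    Tuple.monotone_sort fun i => charDegree (b i : G → ℂ)
  have ha : ∀ i, a i ∈ X ∧ a i ≠ principal G := fun i =>
    ⟨Finset.mem_of_mem_erase (e₀ (q i)).2, Finset.ne_of_mem_erase (e₀ (q i)).2⟩
  have hainj : Function.Injective a := fun i j h => q.injective (e₀.injective (Subtype.ext h))
  have hasurj : ∀ χ ∈ X, χ ≠ principal G → ∃ i, χ = a i := by
    intro χ hχ hne
    obtain ⟨i, hi⟩ := e₀.surjective ⟨χ, Finset.mem_erase.2 ⟨hne, hχ⟩⟩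
    obtain ⟨j, hj⟩ := q.surjective i
    exact ⟨j, by show χ = b (q j); rw [hj]; exact (congrArg Subtype.val hi).symm⟩
  obtain ⟨θ₀, θ₁, hθne, hYe⟩ := Finset.card_eq_two.1 hY
  let θ : Fin 2 → IrrCharacter G := ![θ₀, θ₁]
  have hθ : ∀ j, θ j ∈ Y := fun j => by rw [hYe]; fin_cases j <;> simp [θ]
  have hθp : ∀ j, θ j ≠ principal G := fun j h =>
    Finset.disjoint_left.1 hdisj hprin (h ▸ hθ j)
  -- degrees and signs
  have hdeg : ∀ i, charDegree (a i : G → ℂ) ∈ neSeven ∧
      σ (a i) = sgnSeven (charDegree (a i : G → ℂ)) := by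
    intro i
    obtain ⟨hlt, hdvd, hpos⟩ := degree_facts hG (a i)
    obtain ⟨hs, hmod, -⟩ := hXp (a i) (ha i).1
    have h1 : charDegree (a i : G → ℂ) ≠ 1 := fun h => (ha i).2 (eq_principal hG h)
    rw [Int.modEq_iff_dvd] at hmod
    refine ⟨List.mem_filter.2 ⟨List.mem_range.2 hlt, ?_⟩, ?_⟩
    · simp only [Bool.and_eq_true, Bool.or_eq_true, decide_eq_true_eq]
      refine ⟨by omega, Nat.mod_eq_zero_of_dvd hdvd, ?_⟩
      rcases hs with h | h <;> rw [h] at hmod <;> omega
    · unfold sgnSeven
      rcases hs with h | h <;> rw [h] at hmod ⊢ <;> split_ifs with h' <;> omega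
  have hσp : σ (principal G) = 1 := by
    have h := (hXp _ hprin).2.1
    rw [principal_degree hG, Int.modEq_iff_dvd] at h
    rcases (hXp _ hprin).1 with h' | h' <;> rw [h'] at h ⊢ <;> omega
  have hsumX : ∀ F : IrrCharacter G → ℂ, ∑ χ ∈ X, F χ = F (principal G) + ∑ i, F (a i) := by
    intro F
    rw [← Finset.add_sum_erase _ _ hprin, ← hX',
      ← Finset.sum_bij (fun i _ => a i) (fun i _ => Finset.mem_erase.2 ⟨(ha i).2, (ha i).1⟩)
        (fun i _ j _ h => hainj h)
        (fun χ hχ => by
          rw [Finset.mem_erase] at hχ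
          obtain ⟨i, hi⟩ := hasurj χ hχ.2 hχ.1
          exact ⟨i, Finset.mem_univ _, hi.symm⟩) (fun i _ => rfl)]
  have hrelA : ∀ j, ∀ g : G, ¬ 7 ∣ orderOf g →
      (ε : ℂ) * (θ j : G → ℂ) g = 1 + ∑ i, (σ (a i) : ℂ) * (a i : G → ℂ) g := by
    intro j g hg
    rw [hrel (θ j) (hθ j) g hg, hsumX, hσp, principal_apply]
    simp
  have hθdeg : ∀ j, charDegree (θ j : G → ℂ) = charDegree (θ₀ : G → ℂ) := by
    intro j
    have h := hYeq (θ j) (hθ j) θ₀ (hθ 0) 1 h1one
    rw [deg_eq, deg_eq, Nat.cast_inj] at h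
    exact h
  set de := charDegree (θ₀ : G → ℂ) with hde
  have hde1 : 2 ≤ de := by
    have := (degree_facts hG θ₀).2.2
    by_contra h
    exact hθp 0 (eq_principal hG (show charDegree (θ₀ : G → ℂ) = 1 by omega))
  have hT : excSeven (charDegree (a 0 : G → ℂ)) (charDegree (a 1 : G → ℂ)) = ε * (de : ℤ) := by
    have h := hrelA 0 1 h1one
    simp only [deg_eq, hθdeg 0, Fin.sum_univ_two, (hdeg _).2] at h
    unfold excSeven
    exact_mod_cast h.symm
  have hTabs : (excSeven (charDegree (a 0 : G → ℂ)) (charDegree (a 1 : G → ℂ))).natAbs = de := by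
    rw [hT]; rcases hε with h | h <;> simp [h]
  -- characters outside the block
  have hcover : ∀ χ : IrrCharacter G, χ = principal G ∨ (∃ i, χ = Fin.append a θ i) ∨
      (7 ∣ charDegree (χ : G → ℂ) ∧ ∀ x : G, orderOf x = 7 → (χ : G → ℂ) x = 0) := by
    intro χ
    by_cases h : 7 ∣ charDegree (χ : G → ℂ)
    · refine Or.inr (Or.inr ⟨h, fun x hx => ?_⟩)
      exact eq_zero_of_dvd_orderOf χ.2 (n := 1) (p := 7) (by norm_num) (deg_eq χ)
        (by rw [hG]; norm_num) (by rw [pow_one]; exact h) (by rw [hx])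
    rcases (hB χ).1 (mem_principalBlock_of_selfCentral hM P hP hC χ h) with hx | hy
    · by_cases hp : χ = principal G
      · exact Or.inl hp
      · obtain ⟨i, hi⟩ := hasurj χ hx hp
        exact Or.inr (Or.inl ⟨Fin.castAdd 2 i, by rw [Fin.append_left, hi]⟩)
    · rw [hYe, Finset.mem_insert, Finset.mem_singleton] at hy
      rcases hy with rfl | rfl
      · exact Or.inr (Or.inl ⟨Fin.natAdd 2 0, by rw [Fin.append_right]; rfl⟩)
      · exact Or.inr (Or.inl ⟨Fin.natAdd 2 1, by rw [Fin.append_right]; rfl⟩)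
  have hinj : Function.Injective (Fin.append a θ) := by
    intro i j h
    induction i using Fin.addCases with
    | left i =>
      induction j using Fin.addCases with
      | left j => rw [Fin.append_left, Fin.append_left] at h; rw [hainj h]
      | right j =>
        rw [Fin.append_left, Fin.append_right] at h
        exact absurd (hθ j) (fun hy => Finset.disjoint_left.1 hdisj (ha i).1 (h ▸ hy))
    | right i =>
      induction j using Fin.addCases with
      | left j =>
        rw [Fin.append_left, Fin.append_right] at h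
        exact absurd (hθ i) (fun hy => Finset.disjoint_left.1 hdisj (ha j).1 (h ▸ hy))
      | right j =>
        rw [Fin.append_right, Fin.append_right] at h
        fin_cases i <;> fin_cases j <;> simp [θ, hθne, hθne.symm] at h ⊢
  have hnep : ∀ i, Fin.append a θ i ≠ principal G := fun i => by
    induction i using Fin.addCases with
    | left i => rw [Fin.append_left]; exact (ha i).2
    | right i => rw [Fin.append_right]; exact hθp i
  have hatA : ∀ i, ∀ x : G, orderOf x = 7 → (a i : G → ℂ) x = (σ (a i) : ℂ) := by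
    intro i x hx
    obtain ⟨Q, hQ⟩ := (IsPGroup.of_card (p := 7) (n := 1)
      (show Nat.card (Subgroup.zpowers x) = 7 ^ 1 by
        rw [Nat.card_zpowers, hx, pow_one])).exists_le_sylow
    obtain ⟨c, hc⟩ := MulAction.exists_smul_eq G Q P
    have hmem : c * x * c⁻¹ ∈ (P : Subgroup G) := by
      rw [← hc, Sylow.smul_def]
      exact Subgroup.mem_map_of_mem (MulAut.conj c).toMonoidHom (hQ (Subgroup.mem_zpowers _))
    rw [← apply_conj (a i) x c]
    exact (hXp (a i) (ha i).1).2.2 _ hmem fun h => by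
      rw [conj_eq_one_iff] at h
      rw [h, orderOf_one] at hx
      omega
  have hatθ : ∀ x : G, orderOf x = 7 → (θ 0 : G → ℂ) x + (θ 1 : G → ℂ) x = -(ε : ℂ) := by
    intro x hx
    have hcol := sum_degree_mul (G := G) x
    have hsub : ∑ χ ∈ insert (principal G) (Finset.univ.image (Fin.append a θ)),
        (χ : G → ℂ) 1 * (χ : G → ℂ) x = ∑ χ : IrrCharacter G, (χ : G → ℂ) 1 * (χ : G → ℂ) x :=
      Finset.sum_subset (Finset.subset_univ _) fun χ _ hχ => by
        rcases hcover χ with h | ⟨i, h⟩ | h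
        · exact absurd (Finset.mem_insert.2 (Or.inl h)) hχ
        · exact absurd (Finset.mem_insert_of_mem
            (Finset.mem_image.2 ⟨i, Finset.mem_univ _, h.symm⟩)) hχ
        · rw [h.2 x hx, mul_zero]
    rw [if_neg (fun h => by rw [h, orderOf_one] at hx; omega), ← hsub,
      Finset.sum_insert (fun h => by
        obtain ⟨i, -, hi⟩ := Finset.mem_image.1 h
        exact hnep i hi), Finset.sum_image fun i _ j _ h => hinj h, Fin.sum_univ_add] at hcol
    have hrel1 := hrelA 0 1 h1one
    simp only [deg_eq, hθdeg 0, Fin.sum_univ_two] at hrel1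
    simp only [Fin.append_left, Fin.append_right, Fin.sum_univ_two, principal_apply, deg_eq,
      hatA _ x hx, hθdeg 0, hθdeg 1] at hcol
    have hdne : (de : ℂ) ≠ 0 := Nat.cast_ne_zero.2 (by omega)
    have h3 : (de : ℂ) * ((ε : ℂ) + ((θ 0 : G → ℂ) x + (θ 1 : G → ℂ) x)) = 0 := by
      linear_combination hcol + hrel1
    linear_combination (mul_eq_zero.1 h3).resolve_left hdne
  have hmemL : ((![charDegree (a 0 : G → ℂ), charDegree (a 1 : G → ℂ)], de) : (Fin 2 → ℕ) × ℕ) ∈
      allSeven := by
    refine List.mem_flatMap.2 ⟨_, (hdeg 0).1, List.mem_map.2 ⟨_, List.mem_filter.2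
      ⟨(hdeg 1).1, ?_⟩, by rw [hTabs]⟩⟩
    simp only [admissibleSeven, hTabs, Bool.and_eq_true, decide_eq_true_eq]
    exact ⟨hmono (show (0 : Fin 2) ≤ 1 by decide), hde1, (degree_facts hG θ₀).1,
      Nat.mod_eq_zero_of_dvd (degree_facts hG θ₀).2.1⟩
  exact ⟨{
    a := a
    θ := θ
    sgn := fun i => σ (a i)
    ε := ε
    list := (![charDegree (a 0 : G → ℂ), charDegree (a 1 : G → ℂ)], de)
    mem := hmemL
    deg_a := fun i => by fin_cases i <;> rfl
    deg_θ := hθdeg
    inj := hinj
    ne_principal := hnep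
    sgn_eq := fun i => ⟨(hXp (a i) (ha i).1).1, by
      have h := (hXp (a i) (ha i).1).2.1
      rw [Int.modEq_iff_dvd] at h
      fin_cases i <;> simp at h ⊢ <;> omega⟩
    ε_eq := ⟨hε, by
      have h := hYd θ₀ (hθ 0)
      rw [Int.modEq_iff_dvd, ← hde] at h
      simp only
      omega⟩
    at_p := hatA
    at_p_θ := hatθ
    rel := hrelA
    cover := hcover }⟩

end CfsgLib.M22Order.SevenPairs
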