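import Cfsg.Agent.Lib.M22Order.SevenDefs
import Cfsg.Agent.Lib.M22Order.SevenPairs.Table

/-!
# Simple groups of order 443520: the pairs of lists at eleven and seven
-/

set_option autoImplicit false
set_option linter.style.haveILetI false
set_option linter.unusedSectionVars false

open Cfsg CfsgLib.Chars CfsgLib.CharApps CfsgLib.Blocks CfsgLib.Small

namespace CfsgLib.M22Order.SevenPairs

open CfsgLib.M22Order.BlockTable CfsgLib.M22Order.BlockArith

universe u

variable {G : Type u} [Group G] [Finite G] [IsSimpleGroup G] (hG : Nat.card G = 443520)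

include hG

/-- The conditions on the value of a non-principal character at an involution. -/
theorem value_facts {t : G} (ht : t * t = 1) (ht1 : t ≠ 1) (F : IrrCharacter G → ℤ)
    (hF : ∀ χ, (F χ : ℂ) = (χ : G → ℂ) t) (χ : IrrCharacter G) (hne : χ ≠ principal G) :
    (4 : ℤ) ∣ (dg χ : ℤ) - F χ ∧ (F χ).natAbs < dg χ ∧
      (dg χ : ℤ) ∣ ((443520 / Nat.card (cen t) : ℕ) : ℤ) * F χ := by
  obtain ⟨m, hm, h4, hlo, hhi⟩ :=
    involution_value hG ht ht1 χ fun h => hne (eq_principal hG h)
  obtain rfl : m = F χ := Int.cast_injective (α := ℂ) (hm.trans (hF χ).symm)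
  refine ⟨h4, ?_, ?_⟩
  · have : F χ ≠ -(dg χ : ℤ) := fun h =>
      apply_ne_neg_degree hG ht ht1 χ hne (by rw [← hF χ, h]; simp)
    unfold dg at this ⊢
    omega
  · have hk : 443520 / Nat.card (cen t) = (cen t).index := by
      rw [← index_mul_card_cen hG t, Nat.mul_div_cancel _ Nat.card_pos]
    rw [hk]
    exact M12Order.dvd_index_mul χ (hF χ)

omit [Finite G] [IsSimpleGroup G] hG in
/-- The six characters at eleven, as a list. -/
theorem ofFn_append_four {α : Type*} (a : Fin 4 → α) (θ : Fin 2 → α) :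
    List.ofFn (Fin.append a θ) = [a 0, a 1, a 2, a 3, θ 0, θ 1] := rfl

omit [Finite G] [IsSimpleGroup G] hG in
/-- The four characters at seven, as a list. -/
theorem ofFn_append_two {α : Type*} (a : Fin 2 → α) (θ : Fin 2 → α) :
    List.ofFn (Fin.append a θ) = [a 0, a 1, θ 0, θ 1] := rfl

/-- The two lists form one of the five pairs. -/
theorem mem_pairs_of_tables (L : LocalEleven G) (L7 : LocalSeven G) (T : TableEleven G)
    (S : Table G 7 2 allSeven) : (T.list, S.list) ∈ pairs := by
  classical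
  haveI := Fintype.ofFinite G
  haveI := irrFintype G
  haveI := Fact.mk (show Nat.Prime 7 by norm_num)
  haveI := Fact.mk (show Nat.Prime 11 by norm_num)
  obtain ⟨t, hto, r, hC⟩ := exists_central_involution hG L
  have ht : t * t = 1 := by rw [← sq, ← hto, pow_orderOf_eq_one]
  have ht1 : t ≠ 1 := fun h => by rw [h, orderOf_one] at hto; omega
  have h11t : ¬ 11 ∣ orderOf t := by rw [hto]; norm_num
  have h7t : ¬ 7 ∣ orderOf t := by rw [hto]; norm_num
  let F : IrrCharacter G → ℤ := fun χ => (exists_int_apply_involution ht χ).choose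
  have hF : ∀ χ, (F χ : ℂ) = (χ : G → ℂ) t := fun χ =>
    (exists_int_apply_involution ht χ).choose_spec
  set C := Nat.card (cen t) with hCdef
  -- the two lists of characters
  set lT := List.ofFn (Fin.append T.a T.θ) with hlT
  set lS := List.ofFn (Fin.append S.a S.θ) with hlS
  have hndT : lT.Nodup := List.nodup_ofFn.2 T.inj
  have hndS : lS.Nodup := List.nodup_ofFn.2 S.inj
  have hT11 : ∀ χ ∈ lT, ¬ 11 ∣ dg χ := fun χ h => by
    obtain ⟨i, rfl⟩ := List.mem_ofFn.1 h
    exact not_dvd_dg T (by norm_num) (by norm_num) i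
  have hS7 : ∀ χ ∈ lS, ¬ 7 ∣ dg χ := fun χ h => by
    obtain ⟨i, rfl⟩ := List.mem_ofFn.1 h
    exact not_dvd_dg S (by norm_num) (by norm_num) i
  have hTne : ∀ χ ∈ lT, χ ≠ principal G := fun χ h => by
    obtain ⟨i, rfl⟩ := List.mem_ofFn.1 h
    exact T.ne_principal i
  have hSne : ∀ χ ∈ lS, χ ≠ principal G := fun χ h => by
    obtain ⟨i, rfl⟩ := List.mem_ofFn.1 h
    exact S.ne_principal i
  have hTmem : ∀ χ, χ ≠ principal G → ¬ 11 ∣ dg χ → χ ∈ lT := fun χ h1 h2 => by
    obtain ⟨i, rfl⟩ := dvd_or_mem T χ h1 h2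
    exact List.mem_ofFn.2 ⟨i, rfl⟩
  have hSmem : ∀ χ, χ ≠ principal G → ¬ 7 ∣ dg χ → χ ∈ lS := fun χ h1 h2 => by
    obtain ⟨i, rfl⟩ := dvd_or_mem S χ h1 h2
    exact List.mem_ofFn.2 ⟨i, rfl⟩
  -- the characters of degree prime to seventy-seven
  have hperm : (lT.filter fun χ => decide (dg χ % 7 ≠ 0)).Perm
      (lS.filter fun χ => decide (dg χ % 11 ≠ 0)) := by
    refine (List.perm_ext_iff_of_nodup (hndT.filter _) (hndS.filter _)).2 fun χ => ?_
    simp only [List.mem_filter, decide_eq_true_eq, ← Nat.dvd_iff_mod_eq_zero, ne_eq]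
    exact ⟨fun h => ⟨hSmem χ (hTne χ h.1) h.2, hT11 χ h.1⟩,
      fun h => ⟨hTmem χ (hSne χ h.1) h.2, hS7 χ h.1⟩⟩
  -- all characters of degree not divisible by seventy-seven
  set lX := lS.filter fun χ => decide (dg χ % 11 = 0) with hlX
  set K : List (IrrCharacter G) := principal G :: (lT ++ lX) with hK
  have hndK : K.Nodup := by
    refine List.nodup_cons.2 ⟨fun h => ?_, List.nodup_append.2 ⟨hndT, hndS.filter _, ?_⟩⟩
    · rcases List.mem_append.1 h with h | h
      · exact hTne _ h rfl
      · exact hSne _ (List.mem_filter.1 h).1 rfl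
    · rintro χ h1 ψ h2 rfl
      have := (List.mem_filter.1 h2).2
      simp only [decide_eq_true_eq, ← Nat.dvd_iff_mod_eq_zero] at this
      exact hT11 χ h1 this
  have hrest : ∀ χ, χ ∉ K → 77 ∣ dg χ := by
    intro χ h
    simp only [hK, hlX, List.mem_cons, List.mem_append, List.mem_filter, decide_eq_true_eq,
      ← Nat.dvd_iff_mod_eq_zero, not_or, not_and] at h
    have h11 : 11 ∣ dg χ := by
      by_contra h'
      exact h.2.1 (hTmem χ h.1 h')
    have h7 : 7 ∣ dg χ := by
      by_contra h'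
      exact h.2.2 (hSmem χ h.1 h') h11
    exact Nat.Coprime.mul_dvd_of_dvd_of_dvd (show Nat.Coprime 7 11 by norm_num) h7 h11
  have hmapT : lT.map (fun χ => (dg χ, F χ)) = pairsT T.list (F (T.a 0)) (F (T.a 1)) (F (T.a 2))
      (F (T.a 3)) := by
    have hs : ∀ i, T.sgn i = sgnDeg (T.list.1 i) := fun i => by
      obtain ⟨h1, h2⟩ := T.sgn_eq i
      unfold sgnDeg
      rcases h1 with h | h <;> rw [h] at h2 ⊢ <;> split_ifs with h' <;> omega
    have hd := deg_rel T (by norm_num)
    have hv := value_rel T h11t F hF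
    simp only [Fin.sum_univ_four, hs] at hd hv
    have hw : ∀ j, F (T.θ j) = valT T.list (F (T.a 0)) (F (T.a 1)) (F (T.a 2)) (F (T.a 3)) := by
      intro j
      have hde : Int.sign (T.list.2 : ℤ) = 1 := Int.sign_eq_one_of_pos
        (by have := CfsgLib.Blocks.charDegree_pos (T.θ 0); rw [T.deg_θ] at this; omega)
      rw [valT, excDeg, ← hd, Int.sign_mul, hde, mul_one, hv]
      rcases T.ε_eq.1 with h | h <;> simp [h]
    simp only [hlT, ofFn_append_four, List.map_cons, List.map_nil, pairsT, dg, T.deg_a, T.deg_θ, hw]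
  have hmapS : lS.map (fun χ => (dg χ, F χ)) = pairsS S.list (F (S.a 0)) (F (S.a 1)) := by
    have hs : ∀ i, S.sgn i = sgnSeven (S.list.1 i) := fun i => by
      obtain ⟨h1, h2⟩ := S.sgn_eq i
      unfold sgnSeven
      rcases h1 with h | h <;> rw [h] at h2 ⊢ <;> split_ifs with h' <;> omega
    have hd := deg_rel S (by norm_num)
    have hv := value_rel S h7t F hF
    simp only [Fin.sum_univ_two, hs] at hd hv
    have hw : ∀ j, F (S.θ j) = valS S.list (F (S.a 0)) (F (S.a 1)) := by
      intro j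
      have hde : Int.sign (S.list.2 : ℤ) = 1 := Int.sign_eq_one_of_pos
        (by have := CfsgLib.Blocks.charDegree_pos (S.θ 0); rw [S.deg_θ] at this; omega)
      rw [valS, excSeven, ← hd, Int.sign_mul, hde, mul_one, hv]
      rcases S.ε_eq.1 with h | h <;> simp [h]
    simp only [hlS, ofFn_append_two, List.map_cons, List.map_nil, pairsS, dg, S.deg_a, S.deg_θ, hw]
  have hdT : lT.map (fun χ => dg χ) = degsT T.list := by
    simpa [pairsT, degsT] using congrArg (List.map Prod.fst) hmapT
  have hdS : lS.map (fun χ => dg χ) = degsS S.list := by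
    simpa [pairsS, degsS] using congrArg (List.map Prod.fst) hmapS
  have h1 : matchDegs T.list S.list = true := by
    rw [matchDegs, List.isPerm_iff, ← hdT, ← hdS, List.filter_map, List.filter_map]
    exact hperm.map _
  have hsum : ∀ f : IrrCharacter G → ℤ,
      ∑ χ ∈ K.toFinset, f χ = f (principal G) + ((lT.map f).sum + (lX.map f).sum) := by
    intro f
    rw [List.sum_toFinset f hndK, hK, List.map_cons, List.sum_cons, List.map_append, List.sum_append]
  have h2 : budget T.list S.list = true := by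
    have hall : ∑ χ : IrrCharacter G, ((dg χ : ℤ) * dg χ) = 443520 := by
      have h := sum_degree_sq_nat (G := G)
      rw [hG] at h
      simp only [dg, ← sq]
      exact_mod_cast h
    have hr : rest T.list S.list = ∑ χ ∈ K.toFinsetᶜ, ((dg χ : ℤ) * dg χ) := by
      have h := (Finset.sum_add_sum_compl K.toFinset fun χ => ((dg χ : ℤ) * dg χ)).trans hall
      rw [hsum] at h
      rw [show ((dg (principal G) : ℤ)) = 1 from by exact_mod_cast principal_degree hG] at h
      rw [rest, ← hdT, ← hdS, List.filter_map, List.map_map, List.map_map]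
      rw [hlX] at h
      simp only [Function.comp_def] at h ⊢
      linarith
    simp only [budget, Bool.and_eq_true, decide_eq_true_eq, hr]
    refine ⟨Finset.sum_nonneg fun χ _ => mul_self_nonneg _, ?_⟩
    refine Int.emod_eq_zero_of_dvd (Finset.dvd_sum fun χ hχ => ?_)
    rw [Finset.mem_compl, List.mem_toFinset] at hχ
    exact (mul_dvd_mul (Int.natCast_dvd_natCast.2 (hrest χ hχ))
      (Int.natCast_dvd_natCast.2 (hrest χ hχ)) : ((77 : ℕ) : ℤ) * (77 : ℕ) ∣ _)
  have hnorm : 1 + ((pairsT T.list (F (T.a 0)) (F (T.a 1)) (F (T.a 2)) (F (T.a 3))).map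
      fun z : ℕ × ℤ => z.2 * z.2).sum + (((pairsS S.list (F (S.a 0)) (F (S.a 1))).filter
        fun z => decide (z.1 % 11 = 0)).map fun z : ℕ × ℤ => z.2 * z.2).sum ≤ (C : ℤ) := by
    have h := M12Order.sum_sq_le_card_cen K.toFinset F fun χ _ => hF χ
    rw [hsum] at h
    have e1 : F (principal G) = 1 := by
      have h := hF (principal G)
      rw [principal_apply] at h
      exact_mod_cast h
    rw [e1] at h
    rw [← hmapT, ← hmapS, List.filter_map, List.map_map, List.map_map]
    simp only [hlX, Function.comp_def, sq] at h ⊢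
    refine le_trans (le_of_eq ?_) h
    ring
  have hvals : ∀ χ : IrrCharacter G, χ ≠ principal G → F χ ∈ vals (dg χ) C r := by
    intro χ hne
    have h : F χ * F χ ≤ (C : ℤ) := by
      have h := M12Order.sum_sq_le_card_cen {χ} F fun χ _ => hF χ
      rw [Finset.sum_singleton, sq] at h
      exact h
    have hrC : C < (r + 1) * (r + 1) := by
      have : ∀ p ∈ centralCents, p.1 < (p.2 + 1) * (p.2 + 1) := by decide
      exact this _ hC
    have hle : (F χ).natAbs ≤ r := by
      by_contra hlt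
      have h93 : (r + 1) * (r + 1) ≤ (F χ).natAbs * (F χ).natAbs :=
        Nat.mul_le_mul (by omega) (by omega)
      have h4 : (((F χ).natAbs * (F χ).natAbs : ℕ) : ℤ) = F χ * F χ := by
        push_cast; exact abs_mul_abs_self _
      omega
    obtain ⟨h4, hlt, hdvd⟩ := value_facts hG ht ht1 F hF χ hne
    exact mem_vals hle hlt h4 hdvd h
  have h3 : pairFits T.list S.list = true := by
    have hvT : ∀ i, F (T.a i) ∈ vals (T.list.1 i) C r := fun i => by
      rw [← T.deg_a i]
      exact hvals _ (by simpa using T.ne_principal (Fin.castAdd 2 i))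
    have hvS : ∀ i, F (S.a i) ∈ vals (S.list.1 i) C r := fun i => by
      rw [← S.deg_a i]
      exact hvals _ (by simpa using S.ne_principal (Fin.castAdd 2 i))
    have hTθ := value_facts hG ht ht1 F hF (T.θ 0)
      (T.ne_principal (Fin.natAdd 4 0))
    have hSθ := value_facts hG ht ht1 F hF (S.θ 0)
      (S.ne_principal (Fin.natAdd 2 0))
    simp only [dg, T.deg_θ, S.deg_θ, ← hCdef] at hTθ hSθ
    have hnn : ∀ i, 0 ≤ F (T.a i) * F (T.a i) := fun i => mul_self_nonneg _
    have hwT := mul_self_nonneg (valT T.list (F (T.a 0)) (F (T.a 1)) (F (T.a 2)) (F (T.a 3)))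
    have hX0 : 0 ≤ (((pairsS S.list (F (S.a 0)) (F (S.a 1))).filter
        fun z => decide (z.1 % 11 = 0)).map fun z : ℕ × ℤ => z.2 * z.2).sum :=
      List.sum_nonneg fun x hx => by
        obtain ⟨z, -, rfl⟩ := List.mem_map.1 hx
        exact mul_self_nonneg _
    have hnormT := hnorm
    simp only [pairsT, List.map_cons, List.map_nil, List.sum_cons, List.sum_nil] at hnormT
    obtain ⟨zT, hzT⟩ := exists_prime_orderOf_dvd_card' (G := G) 11 (by rw [hG]; norm_num)
    obtain ⟨zS, hzS⟩ := exists_prime_orderOf_dvd_card' (G := G) 7 (by rw [hG]; norm_num)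
    have cT := class_zero T hG ht ht1 h11t hzT (fun u hu h =>
      BlockTable.eq_one_of_inverts hG L (x := zT⁻¹) (by rw [orderOf_inv, hzT]) hu h) F hF
    have cS := class_zero S hG ht ht1 h7t hzS (fun u hu h =>
      eq_one_of_inverts L7 (by norm_num) (card_sylow_seven hG) (x := zS⁻¹)
        (by rw [orderOf_inv, hzS]) hu h) F hF
    have hsT : ∀ i, T.sgn i = sgnDeg (T.list.1 i) := fun i => by
      obtain ⟨h1, h2⟩ := T.sgn_eq i
      unfold sgnDeg
      rcases h1 with h | h <;> rw [h] at h2 ⊢ <;> split_ifs with h' <;> omega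
    have hsS : ∀ i, S.sgn i = sgnSeven (S.list.1 i) := fun i => by
      obtain ⟨h1, h2⟩ := S.sgn_eq i
      unfold sgnSeven
      rcases h1 with h | h <;> rw [h] at h2 ⊢ <;> split_ifs with h' <;> omega
    have hdT' := deg_rel T (by norm_num)
    have hdS' := deg_rel S (by norm_num)
    simp only [Fin.sum_univ_four, Fin.sum_univ_two, hsT, hsS] at hdT' hdS' cT cS
    have hTpos : 0 < T.list.2 := by
      have := CfsgLib.Blocks.charDegree_pos (T.θ 0); rwa [T.deg_θ] at this
    have hSpos : 0 < S.list.2 := by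
      have := CfsgLib.Blocks.charDegree_pos (S.θ 0); rwa [S.deg_θ] at this
    have hTabs : (excDeg (T.list.1 0) (T.list.1 1) (T.list.1 2) (T.list.1 3)).natAbs = T.list.2 := by
      rw [excDeg, ← hdT']
      rcases T.ε_eq.1 with h | h <;> simp [h]
    have hTsign : (excDeg (T.list.1 0) (T.list.1 1) (T.list.1 2) (T.list.1 3)).sign = T.ε := by
      rw [excDeg, ← hdT', Int.sign_mul, Int.sign_eq_one_of_pos (by omega : (0:ℤ) < T.list.2)]
      rcases T.ε_eq.1 with h | h <;> simp [h]
    have hSsign : (excSeven (S.list.1 0) (S.list.1 1)).sign = S.ε := by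
      rw [excSeven, ← hdS', Int.sign_mul, Int.sign_eq_one_of_pos (by omega : (0:ℤ) < S.list.2)]
      rcases S.ε_eq.1 with h | h <;> simp [h]
    have hTw : F (T.θ 0) = valT T.list (F (T.a 0)) (F (T.a 1)) (F (T.a 2)) (F (T.a 3)) := by
      have := congrArg (fun l => (l.getD 4 (0, 0)).2) hmapT
      simp [hlT, pairsT] at this
      exact this
    have hSw : F (S.θ 0) = valS S.list (F (S.a 0)) (F (S.a 1)) := by
      have := congrArg (fun l => (l.getD 2 (0, 0)).2) hmapS
      simp [hlS, pairsS] at this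
      exact this
    refine List.any_eq_true.2 ⟨(C, r), hC, List.any_eq_true.2 ⟨_, hvT 0, List.any_eq_true.2
      ⟨_, hvT 1, ?_⟩⟩⟩
    rw [Bool.and_eq_true, decide_eq_true_eq]
    refine ⟨by have := hnn 2; have := hnn 3; simp only; linarith, List.any_eq_true.2 ⟨_, hvT 2, ?_⟩⟩
    rw [Bool.and_eq_true, decide_eq_true_eq]
    refine ⟨by have := hnn 3; simp only; linarith, List.any_eq_true.2 ⟨_, hvT 3, ?_⟩⟩
    rw [Bool.and_eq_true]
    constructor
    · rw [hTw] at hTθ cT
      have hw' : T.ε * (1 + (sgnDeg (T.list.1 0) * F (T.a 0) + sgnDeg (T.list.1 1) * F (T.a 1) +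
          sgnDeg (T.list.1 2) * F (T.a 2) + sgnDeg (T.list.1 3) * F (T.a 3))) =
          valT T.list (F (T.a 0)) (F (T.a 1)) (F (T.a 2)) (F (T.a 3)) := by
        rw [valT, hTsign]
      simp only [fitsValues, hTabs, hTsign, hw', Bool.and_eq_true, decide_eq_true_eq]
      exact ⟨⟨⟨⟨hTθ.2.1, hTθ.1⟩, by linarith⟩, cT⟩, hTθ.2.2⟩
    refine List.any_eq_true.2 ⟨_, hvS 0, List.any_eq_true.2 ⟨_, hvS 1, ?_⟩⟩
    rw [hSw] at hSθ cS
    simp only [fitsSeven, fitsBoth, hSsign, Bool.and_eq_true, decide_eq_true_eq, List.isPerm_iff]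
    refine ⟨⟨hSθ.2.1, hSθ.1, hSθ.2.2, cS⟩, ?_, hnorm⟩
    rw [← hmapT, ← hmapS, List.filter_map, List.filter_map]
    exact hperm.map _
  exact mem_pairs T.mem S.mem h1 h2 h3

/-- The second part of piece C. -/
theorem exists_seven_table (L : LocalEleven G) (L7 : LocalSeven G) (T : TableEleven G) :
    ∃ S : TableSeven G, (T.list, S.list) ∈ pairs := by
  obtain ⟨S⟩ := exists_table_seven hG L7
  have h := mem_pairs_of_tables hG L L7 T S
  have key : ∀ z ∈ pairs, z.2 ∈ tablesSeven := by decide +kernel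
  exact ⟨⟨S.a, S.θ, S.sgn, S.ε, S.list, key _ h, S.deg_a, S.deg_θ, S.inj, S.ne_principal,
    S.sgn_eq, S.ε_eq, S.at_p, S.at_p_θ, S.rel, S.cover⟩, h⟩

omit hG in
/-- Piece C5. -/
theorem seven_pairs : SevenPairsStmt.{u} := by
  intro G _ _ hs hG L L7 T
  haveI := hs
  exact exists_seven_table hG L L7 T

end CfsgLib.M22Order.SevenPairs
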