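import Cfsg.Agent.Lib.M22Order.Interface
import Cfsg.Agent.Lib.M22Order.BlockArith

/-!
# Simple groups of order 443520: arithmetic of the blocks at seven and eleven

The lists at seven compatible with a table at eleven: the degrees prime to seventy-seven are
shared, the remaining characters have degree divisible by seventy-seven, and the values at a
central involution agree (piece C of `tools/S1663_plan.md`).
-/

set_option autoImplicit false

namespace CfsgLib.M22Order.SevenPairs

open CfsgLib.M22Order.BlockArith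

/-- The degrees of non-exceptional characters at seven. -/
def neSeven : List ℕ :=
  (List.range 666).filter fun d =>
    decide (2 ≤ d) && (decide (443520 % d = 0) && (decide (d % 7 = 1) || decide (d % 7 = 6)))

/-- The sign attached to a degree congruent to plus or minus one. -/
def sgnSeven (d : ℕ) : ℤ := if d % 7 = 1 then 1 else -1

/-- The signed degree of the exceptional characters at seven. -/
def excSeven (a b : ℕ) : ℤ := 1 + (sgnSeven a * a + sgnSeven b * b)

/-- The conditions on two degrees at seven. -/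
def admissibleSeven (a b : ℕ) : Bool :=
  decide (a ≤ b) && (decide (2 ≤ (excSeven a b).natAbs) && (decide ((excSeven a b).natAbs < 666) &&
    decide (443520 % (excSeven a b).natAbs = 0)))

/-- All lists at seven. -/
def allSeven : List ((Fin 2 → ℕ) × ℕ) :=
  neSeven.flatMap fun a => (neSeven.filter fun b => admissibleSeven a b).map fun b =>
    (![a, b], (excSeven a b).natAbs)

/-- The degrees of the six characters at eleven. -/
def degsT (x : (Fin 4 → ℕ) × ℕ) : List ℕ := [x.1 0, x.1 1, x.1 2, x.1 3, x.2, x.2]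

/-- The degrees of the four characters at seven. -/
def degsS (y : (Fin 2 → ℕ) × ℕ) : List ℕ := [y.1 0, y.1 1, y.2, y.2]

/-- The degrees prime to seventy-seven agree. -/
def matchDegs (x : (Fin 4 → ℕ) × ℕ) (y : (Fin 2 → ℕ) × ℕ) : Bool :=
  ((degsT x).filter fun d => decide (d % 7 ≠ 0)).isPerm
    ((degsS y).filter fun d => decide (d % 11 ≠ 0))

/-- What is left for the degrees divisible by seventy-seven. -/
def rest (x : (Fin 4 → ℕ) × ℕ) (y : (Fin 2 → ℕ) × ℕ) : ℤ :=
  443520 - 1 - ((degsT x).map fun d : ℕ => (d : ℤ) * d).sum -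
    (((degsS y).filter fun d => decide (d % 11 = 0)).map fun d : ℕ => (d : ℤ) * d).sum

/-- The degrees leave room. -/
def budget (x : (Fin 4 → ℕ) × ℕ) (y : (Fin 2 → ℕ) × ℕ) : Bool :=
  decide (0 ≤ rest x y) && decide (rest x y % 5929 = 0)

/-- The value of the exceptional characters at eleven. -/
def valT (x : (Fin 4 → ℕ) × ℕ) (p q r s : ℤ) : ℤ :=
  (excDeg (x.1 0) (x.1 1) (x.1 2) (x.1 3)).sign *
    (1 + (sgnDeg (x.1 0) * p + sgnDeg (x.1 1) * q + sgnDeg (x.1 2) * r + sgnDeg (x.1 3) * s))

/-- The value of the exceptional characters at seven. -/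
def valS (y : (Fin 2 → ℕ) × ℕ) (u v : ℤ) : ℤ :=
  (excSeven (y.1 0) (y.1 1)).sign * (1 + (sgnSeven (y.1 0) * u + sgnSeven (y.1 1) * v))

/-- Degrees with values at eleven. -/
def pairsT (x : (Fin 4 → ℕ) × ℕ) (p q r s : ℤ) : List (ℕ × ℤ) :=
  [(x.1 0, p), (x.1 1, q), (x.1 2, r), (x.1 3, s), (x.2, valT x p q r s), (x.2, valT x p q r s)]

/-- Degrees with values at seven. -/
def pairsS (y : (Fin 2 → ℕ) × ℕ) (u v : ℤ) : List (ℕ × ℤ) :=
  [(y.1 0, u), (y.1 1, v), (y.2, valS y u v), (y.2, valS y u v)]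

/-- The conditions on values at seven. -/
def fitsSeven (y : (Fin 2 → ℕ) × ℕ) (C : ℕ) (u v : ℤ) : Bool :=
  decide ((valS y u v).natAbs < y.2) && (decide ((4 : ℤ) ∣ (y.2 : ℤ) - valS y u v) &&
    (decide ((y.2 : ℤ) ∣ ((443520 / C : ℕ) : ℤ) * valS y u v) &&
      decide (443520 + (sgnSeven (y.1 0) * ((443520 / y.1 0 : ℕ) : ℤ) * (u * u) +
        sgnSeven (y.1 1) * ((443520 / y.1 1 : ℕ) : ℤ) * (v * v)) -
          (excSeven (y.1 0) (y.1 1)).sign * ((443520 / y.2 : ℕ) : ℤ) *
            (valS y u v * valS y u v) = 0)))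

/-- The values in the two blocks are compatible. -/
def fitsBoth (x : (Fin 4 → ℕ) × ℕ) (y : (Fin 2 → ℕ) × ℕ) (C : ℕ) (p q r s u v : ℤ) : Bool :=
  (((pairsT x p q r s).filter fun z => decide (z.1 % 7 ≠ 0)).isPerm
      ((pairsS y u v).filter fun z => decide (z.1 % 11 ≠ 0))) &&
    decide (1 + ((pairsT x p q r s).map fun z : ℕ × ℤ => z.2 * z.2).sum +
      (((pairsS y u v).filter fun z => decide (z.1 % 11 = 0)).map fun z : ℕ × ℤ => z.2 * z.2).sum
        ≤ (C : ℤ))

/-- Whether a central involution is possible. -/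
def pairFits (x : (Fin 4 → ℕ) × ℕ) (y : (Fin 2 → ℕ) × ℕ) : Bool :=
  centralCents.any fun C => (vals (x.1 0) C.1 C.2).any fun p => (vals (x.1 1) C.1 C.2).any fun q =>
    decide (1 + (p * p + q * q) ≤ (C.1 : ℤ)) && (vals (x.1 2) C.1 C.2).any fun r =>
      decide (1 + (p * p + q * q + r * r) ≤ (C.1 : ℤ)) && (vals (x.1 3) C.1 C.2).any fun s =>
        fitsValues (x.1 0) (x.1 1) (x.1 2) (x.1 3) C.1 p q r s &&
          (vals (y.1 0) C.1 C.2).any fun u => (vals (y.1 1) C.1 C.2).any fun v =>
            fitsSeven y C.1 u v && fitsBoth x y C.1 p q r s u v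

/-- One pair of lists. -/
def checkPair (x : (Fin 4 → ℕ) × ℕ) (y : (Fin 2 → ℕ) × ℕ) : Bool :=
  !(matchDegs x y && budget x y) || (decide ((x, y) ∈ pairs) || !pairFits x y)

set_option maxRecDepth 100000 in
theorem check : (tables.all fun x => allSeven.all fun y => checkPair x y) = true := by
  decide +kernel

theorem mem_pairs {x : (Fin 4 → ℕ) × ℕ} {y : (Fin 2 → ℕ) × ℕ} (hx : x ∈ tables)
    (hy : y ∈ allSeven) (h1 : matchDegs x y = true) (h2 : budget x y = true)
    (h3 : pairFits x y = true) : (x, y) ∈ pairs := by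
  have h := List.all_eq_true.1 (List.all_eq_true.1 check x hx) y hy
  simpa [checkPair, h1, h2, h3] using h

end CfsgLib.M22Order.SevenPairs
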